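import Cfsg.Agent.Fus.Extension
import Cfsg.Agent.Eq.Def_FusionComponents
import Mathlib.Algebra.Group.Subgroup.Pointwise
import Mathlib.GroupTheory.Sylow

/-!
The product of two saturated fusion systems is saturated.
-/

set_option autoImplicit false

namespace CfsgLib.FusProduct

open Cfsg Cfsg.FusionSystem CfsgLib.Fus
open scoped Pointwise

/-- Componentwise automorphisms of a product. -/
def prodAut (G H : Type*) [Group G] [Group H] : MulAut G × MulAut H →* MulAut (G × H) where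
  toFun x := x.1.prodCongr x.2
  map_one' := MulEquiv.ext fun _ => rfl
  map_mul' _ _ := MulEquiv.ext fun _ => rfl

theorem isPGroup_prod {G H : Type*} [Group G] [Group H] {p : ℕ} {A : Subgroup G} {B : Subgroup H}
    (hA : IsPGroup p A) (hB : IsPGroup p B) : IsPGroup p (A.prod B) := by
  intro x
  obtain ⟨a, ha⟩ := hA ⟨x.1.1, x.2.1⟩
  obtain ⟨b, hb⟩ := hB ⟨x.1.2, x.2.2⟩
  refine ⟨a + b, Subtype.ext (Prod.ext ?_ ?_)⟩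
  · show x.1.1 ^ p ^ (a + b) = 1
    rw [pow_add, pow_mul]
    have := congrArg Subtype.val ha
    simp only [Subgroup.coe_pow, Subgroup.coe_one] at this
    rw [this, one_pow]
  · show x.1.2 ^ p ^ (a + b) = 1
    rw [pow_add, mul_comm, pow_mul]
    have := congrArg Subtype.val hb
    simp only [Subgroup.coe_pow, Subgroup.coe_one] at this
    rw [this, one_pow]

variable {Ω₁ Ω₂ : Type*} [Group Ω₁] [Group Ω₂] {S₁ : Subgroup Ω₁} {S₂ : Subgroup Ω₂}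

/-- The first coordinate on a subgroup of a product. -/
def pfst (P : Subgroup (Ω₁ × Ω₂)) : P →* P.map (MonoidHom.fst Ω₁ Ω₂) :=
  ((MonoidHom.fst Ω₁ Ω₂).comp P.subtype).codRestrict _ fun z => ⟨z, z.2, rfl⟩

/-- The second coordinate on a subgroup of a product. -/
def psnd (P : Subgroup (Ω₁ × Ω₂)) : P →* P.map (MonoidHom.snd Ω₁ Ω₂) :=
  ((MonoidHom.snd Ω₁ Ω₂).comp P.subtype).codRestrict _ fun z => ⟨z, z.2, rfl⟩

variable (Q₁ : Subgroup Ω₁) (Q₂ : Subgroup Ω₂)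

/-- The inclusion of `Q₁ × Q₂`. -/
def incl : Q₁ × Q₂ →* Ω₁ × Ω₂ := Q₁.subtype.prodMap Q₂.subtype

theorem incl_injective : Function.Injective (incl Q₁ Q₂) := fun _ _ h =>
  Prod.ext (Subtype.ext (congrArg Prod.fst h)) (Subtype.ext (congrArg Prod.snd h))

variable {Q₁ Q₂}
variable (F₁ : Cfsg.FusionSystem S₁) (F₂ : Cfsg.FusionSystem S₂)

/-- The action of `Aut_F₁(Q₁) × Aut_F₂(Q₂)` on `Q₁ × Q₂`. -/
def act (Q₁ : Subgroup Ω₁) (Q₂ : Subgroup Ω₂) :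
    F₁.autGroup Q₁ × F₂.autGroup Q₂ →* MulAut (Q₁ × Q₂) :=
  (prodAut Q₁ Q₂).comp ((F₁.autGroup Q₁).subtype.prodMap (F₂.autGroup Q₂).subtype)

/-- The stabiliser of a subgroup of `Q₁ × Q₂`. -/
def stab (W : Subgroup (Q₁ × Q₂)) : Subgroup (F₁.autGroup Q₁ × F₂.autGroup Q₂) :=
  (MulAction.stabilizer (MulAut (Q₁ × Q₂)) W).comap (act F₁ F₂ Q₁ Q₂)

theorem mem_stab {W : Subgroup (Q₁ × Q₂)} {x : F₁.autGroup Q₁ × F₂.autGroup Q₂} :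
    x ∈ stab F₁ F₂ W ↔ act F₁ F₂ Q₁ Q₂ x • W = W := Iff.rfl

theorem act_mem {W : Subgroup (Q₁ × Q₂)} {x : F₁.autGroup Q₁ × F₂.autGroup Q₂}
    (hx : x ∈ stab F₁ F₂ W) {w : Q₁ × Q₂} (hw : w ∈ W) : act F₁ F₂ Q₁ Q₂ x w ∈ W := by
  have h := Subgroup.smul_mem_pointwise_smul w (act F₁ F₂ Q₁ Q₂ x) W hw
  rw [(mem_stab F₁ F₂).1 hx] at h
  exact h

/-- Restriction of the stabiliser to the subgroup. -/
def restrAut (W : Subgroup (Q₁ × Q₂)) : stab F₁ F₂ W →* MulAut W where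
  toFun x :=
    { toFun := fun w => ⟨act F₁ F₂ Q₁ Q₂ x.1 w.1, act_mem F₁ F₂ x.2 w.2⟩
      invFun := fun w => ⟨act F₁ F₂ Q₁ Q₂ x⁻¹.1 w.1, act_mem F₁ F₂ x⁻¹.2 w.2⟩
      left_inv := fun w => Subtype.ext (by simp)
      right_inv := fun w => Subtype.ext (by simp)
      map_mul' := fun _ _ => Subtype.ext (map_mul _ _ _) }
  map_one' := MulEquiv.ext fun w => Subtype.ext (by simp)
  map_mul' x y := MulEquiv.ext fun w => Subtype.ext (by simp)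

/-- The image of `W` in the product of the ambient groups. -/
def img (W : Subgroup (Q₁ × Q₂)) : Subgroup (Ω₁ × Ω₂) := W.map (incl Q₁ Q₂)

/-- `W` and its image. -/
noncomputable def imgEquiv (W : Subgroup (Q₁ × Q₂)) : W ≃* img W :=
  W.equivMapOfInjective _ (incl_injective Q₁ Q₂)

theorem imgEquiv_coe (W : Subgroup (Q₁ × Q₂)) (w : W) :
    ((imgEquiv W w : img W) : Ω₁ × Ω₂) = ((w.1.1 : Ω₁), (w.1.2 : Ω₂)) := rfl

/-- Restriction of the stabiliser to the image. -/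
noncomputable def imgAut (W : Subgroup (Q₁ × Q₂)) : stab F₁ F₂ W →* MulAut (img W) :=
  (MulAut.congr (imgEquiv W)).toMonoidHom.comp (restrAut F₁ F₂ W)

theorem imgAut_imgEquiv (W : Subgroup (Q₁ × Q₂)) (x : stab F₁ F₂ W) (w : W) :
    imgAut F₁ F₂ W x (imgEquiv W w) = imgEquiv W (restrAut F₁ F₂ W x w) := by
  show imgEquiv W (restrAut F₁ F₂ W x ((imgEquiv W).symm (imgEquiv W w))) = _
  rw [MulEquiv.symm_apply_apply]

theorem imgAut_coe (W : Subgroup (Q₁ × Q₂)) (x : stab F₁ F₂ W) (w : W) :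
    ((imgAut F₁ F₂ W x (imgEquiv W w) : img W) : Ω₁ × Ω₂) =
      (((x.1.1 : MulAut Q₁) w.1.1 : Ω₁), ((x.1.2 : MulAut Q₂) w.1.2 : Ω₂)) := by
  rw [imgAut_imgEquiv]
  rfl

theorem imgAut_injective {W : Subgroup (Q₁ × Q₂)} (hW₁ : ∀ a, ∃ w ∈ W, w.1 = a)
    (hW₂ : ∀ b, ∃ w ∈ W, w.2 = b) : Function.Injective (imgAut F₁ F₂ W) := by
  intro x y h
  have key : ∀ w : W, (((x.1.1 : MulAut Q₁) w.1.1 : Ω₁), ((x.1.2 : MulAut Q₂) w.1.2 : Ω₂)) =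
      (((y.1.1 : MulAut Q₁) w.1.1 : Ω₁), ((y.1.2 : MulAut Q₂) w.1.2 : Ω₂)) := by
    intro w
    rw [← imgAut_coe F₁ F₂ W x w, ← imgAut_coe F₁ F₂ W y w, h]
  refine Subtype.ext (Prod.ext (Subtype.ext (MulEquiv.ext fun a => ?_))
    (Subtype.ext (MulEquiv.ext fun b => ?_)))
  · obtain ⟨w, hw, rfl⟩ := hW₁ a
    exact Subtype.ext (congrArg Prod.fst (key ⟨w, hw⟩))
  · obtain ⟨w, hw, rfl⟩ := hW₂ b
    exact Subtype.ext (congrArg Prod.snd (key ⟨w, hw⟩))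

theorem map_fst_img {W : Subgroup (Q₁ × Q₂)} (hW₁ : ∀ a, ∃ w ∈ W, w.1 = a) :
    (img W).map (MonoidHom.fst Ω₁ Ω₂) = Q₁ := by
  ext z
  constructor
  · rintro ⟨_, ⟨w, -, rfl⟩, rfl⟩
    exact w.1.2
  · intro hz
    obtain ⟨w, hw, h⟩ := hW₁ ⟨z, hz⟩
    exact ⟨incl Q₁ Q₂ w, ⟨w, hw, rfl⟩, congrArg Subtype.val h⟩

theorem map_snd_img {W : Subgroup (Q₁ × Q₂)} (hW₂ : ∀ b, ∃ w ∈ W, w.2 = b) :
    (img W).map (MonoidHom.snd Ω₁ Ω₂) = Q₂ := by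
  ext z
  constructor
  · rintro ⟨_, ⟨w, -, rfl⟩, rfl⟩
    exact w.2.2
  · intro hz
    obtain ⟨w, hw, h⟩ := hW₂ ⟨z, hz⟩
    exact ⟨incl Q₁ Q₂ w, ⟨w, hw, rfl⟩, congrArg Subtype.val h⟩

theorem img_le {W : Subgroup (Q₁ × Q₂)} (h₁ : Q₁ ≤ S₁) (h₂ : Q₂ ≤ S₂) :
    img W ≤ S₁.prod S₂ := by
  rintro _ ⟨w, -, rfl⟩
  exact ⟨h₁ w.1.2, h₂ w.2.2⟩

variable {F₁ F₂} {E : Cfsg.FusionSystem (S₁.prod S₂)}

theorem autGroup_img [Finite S₁] [Finite S₂] (hE : Cfsg.FusionSystem.IsProductSystem F₁ F₂ E) (hQ₁ : Q₁ ≤ S₁)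
    (hQ₂ : Q₂ ≤ S₂) {W : Subgroup (Q₁ × Q₂)} (hW₁ : ∀ a, ∃ w ∈ W, w.1 = a)
    (hW₂ : ∀ b, ∃ w ∈ W, w.2 = b) : E.autGroup (img W) = (imgAut F₁ F₂ W).range := by
  have hle : img W ≤ S₁.prod S₂ := img_le hQ₁ hQ₂
  have e₁ := map_fst_img hW₁
  have e₂ := map_snd_img hW₂
  apply le_antisymm
  · intro β hβ
    rw [mem_autGroup_iff E hle] at hβ
    obtain ⟨-, f₁, hf₁, f₂, hf₂, hf⟩ := (hE _ _).1 hβ
    let g₁ : Q₁ →* Ω₁ := f₁.comp (Subgroup.inclusion e₁.ge)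
    let g₂ : Q₂ →* Ω₂ := f₂.comp (Subgroup.inclusion e₂.ge)
    have hg₁ : g₁ ∈ F₁.Hom Q₁ := restrict_mem F₁ hf₁ e₁.ge
    have hg₂ : g₂ ∈ F₂.Hom Q₂ := restrict_mem F₂ hf₂ e₂.ge
    have key : ∀ w : W, ((β (imgEquiv W w) : img W) : Ω₁ × Ω₂) = (g₁ w.1.1, g₂ w.1.2) := fun w =>
      hf (imgEquiv W w) (e₁.ge w.1.1.2) (e₂.ge w.1.2.2)
    have key₁ : ∀ w : W, ((β (imgEquiv W w) : img W) : Ω₁ × Ω₂).1 = g₁ w.1.1 := fun w =>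
      congrArg Prod.fst (key w)
    have key₂ : ∀ w : W, ((β (imgEquiv W w) : img W) : Ω₁ × Ω₂).2 = g₂ w.1.2 := fun w =>
      congrArg Prod.snd (key w)
    have hr₁ : g₁.range = Q₁ := by
      ext z
      constructor
      · rintro ⟨a, rfl⟩
        obtain ⟨w, hw, rfl⟩ := hW₁ a
        have := key₁ ⟨w, hw⟩
        rw [← this]
        exact e₁.le ⟨_, (β (imgEquiv W ⟨w, hw⟩)).2, rfl⟩
      · intro hz
        obtain ⟨v, hv, h⟩ := hW₁ ⟨z, hz⟩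
        obtain ⟨u, hu⟩ := (imgEquiv W).surjective (β⁻¹ (imgEquiv W ⟨v, hv⟩))
        have h3 := key₁ u
        rw [hu, MulAut.inv_def, MulEquiv.apply_symm_apply] at h3
        refine ⟨u.1.1, ?_⟩
        rw [← h3]
        exact congrArg Subtype.val h
    have hr₂ : g₂.range = Q₂ := by
      ext z
      constructor
      · rintro ⟨a, rfl⟩
        obtain ⟨w, hw, rfl⟩ := hW₂ a
        have := key₂ ⟨w, hw⟩
        rw [← this]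
        exact e₂.le ⟨_, (β (imgEquiv W ⟨w, hw⟩)).2, rfl⟩
      · intro hz
        obtain ⟨v, hv, h⟩ := hW₂ ⟨z, hz⟩
        obtain ⟨u, hu⟩ := (imgEquiv W).surjective (β⁻¹ (imgEquiv W ⟨v, hv⟩))
        have h3 := key₂ u
        rw [hu, MulAut.inv_def, MulEquiv.apply_symm_apply] at h3
        refine ⟨u.1.2, ?_⟩
        rw [← h3]
        exact congrArg Subtype.val h
    let x : F₁.autGroup Q₁ × F₂.autGroup Q₂ :=
      (⟨isoOf hg₁ hr₁, isoOf_mem_autGroup hg₁ hr₁⟩, ⟨isoOf hg₂ hr₂, isoOf_mem_autGroup hg₂ hr₂⟩)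
    have hact : ∀ w : W, act F₁ F₂ Q₁ Q₂ x w.1 = ((imgEquiv W).symm (β (imgEquiv W w))).1 := by
      intro w
      apply incl_injective Q₁ Q₂
      show (g₁ w.1.1, g₂ w.1.2) = ((imgEquiv W ((imgEquiv W).symm (β (imgEquiv W w))) : img W) : Ω₁ × Ω₂)
      rw [MulEquiv.apply_symm_apply]
      exact (key w).symm
    have hx : x ∈ stab F₁ F₂ W := by
      rw [mem_stab]
      ext v
      constructor
      · intro hv
        obtain ⟨w, hw, rfl⟩ := (Subgroup.mem_smul_pointwise_iff_exists _ _ _).1 hv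
        show act F₁ F₂ Q₁ Q₂ x w ∈ W
        rw [hact ⟨w, hw⟩]
        exact SetLike.coe_mem _
      · intro hv
        refine (Subgroup.mem_smul_pointwise_iff_exists _ _ _).2
          ⟨((imgEquiv W).symm (β⁻¹ (imgEquiv W ⟨v, hv⟩))).1, SetLike.coe_mem _, ?_⟩
        show act F₁ F₂ Q₁ Q₂ x _ = v
        rw [hact, MulEquiv.apply_symm_apply, MulAut.inv_def, MulEquiv.apply_symm_apply,
          MulEquiv.symm_apply_apply]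
    refine ⟨⟨x, hx⟩, MulEquiv.ext fun z => ?_⟩
    obtain ⟨w, rfl⟩ := (imgEquiv W).surjective z
    apply Subtype.ext
    rw [imgAut_coe, key w]
    rfl
  · rintro _ ⟨x, rfl⟩
    refine mem_autGroup_of_mem E ((hE _ _).2 ⟨hle,
      _, restrict_mem F₁ ((mem_autGroup_iff F₁ hQ₁).1 x.1.1.2) e₁.le,
      _, restrict_mem F₂ ((mem_autGroup_iff F₂ hQ₂).1 x.1.2.2) e₂.le, fun z h₁ h₂ => ?_⟩)
    obtain ⟨w, rfl⟩ := (imgEquiv W).surjective z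
    exact imgAut_coe F₁ F₂ W x w

/-- `Aut_S₁(Q₁) × Aut_S₂(Q₂)` inside `Aut_F₁(Q₁) × Aut_F₂(Q₂)`. -/
def inner (F₁ : Cfsg.FusionSystem S₁) (F₂ : Cfsg.FusionSystem S₂) (Q₁ : Subgroup Ω₁)
    (Q₂ : Subgroup Ω₂) : Subgroup (F₁.autGroup Q₁ × F₂.autGroup Q₂) :=
  ((Cfsg.autInducedBy S₁ Q₁).subgroupOf (F₁.autGroup Q₁)).prod
    ((Cfsg.autInducedBy S₂ Q₂).subgroupOf (F₂.autGroup Q₂))

theorem autInducedBy_img [Finite S₁] [Finite S₂] (hE : Cfsg.FusionSystem.IsProductSystem F₁ F₂ E)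
    (hQ₁ : Q₁ ≤ S₁) (hQ₂ : Q₂ ≤ S₂) {W : Subgroup (Q₁ × Q₂)} (hW₁ : ∀ a, ∃ w ∈ W, w.1 = a)
    (hW₂ : ∀ b, ∃ w ∈ W, w.2 = b) :
    Cfsg.autInducedBy (S₁.prod S₂) (img W) =
      ((inner F₁ F₂ Q₁ Q₂).subgroupOf (stab F₁ F₂ W)).map (imgAut F₁ F₂ W) := by
  apply le_antisymm
  · intro β hβ
    have hx : β ∈ (imgAut F₁ F₂ W).range := by
      rw [← autGroup_img hE hQ₁ hQ₂ hW₁ hW₂]
      exact autInducedBy_le_autGroup E (img_le hQ₁ hQ₂) hβ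
    obtain ⟨x, rfl⟩ := hx
    obtain ⟨g, hg, hgx⟩ := mem_autInducedBy_iff.1 hβ
    have key : ∀ w : W, (((x.1.1 : MulAut Q₁) w.1.1 : Ω₁), ((x.1.2 : MulAut Q₂) w.1.2 : Ω₂)) =
        g * ((w.1.1 : Ω₁), (w.1.2 : Ω₂)) * g⁻¹ := fun w => by
      rw [← imgAut_coe F₁ F₂ W x w, hgx]
      rfl
    refine ⟨x, ⟨?_, ?_⟩, rfl⟩
    · refine mem_autInducedBy_iff.2 ⟨g.1, hg.1, fun a => ?_⟩
      obtain ⟨w, hw, rfl⟩ := hW₁ a
      exact congrArg Prod.fst (key ⟨w, hw⟩)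
    · refine mem_autInducedBy_iff.2 ⟨g.2, hg.2, fun b => ?_⟩
      obtain ⟨w, hw, rfl⟩ := hW₂ b
      exact congrArg Prod.snd (key ⟨w, hw⟩)
  · rintro _ ⟨x, ⟨h₁, h₂⟩, rfl⟩
    obtain ⟨a, ha, hax⟩ := mem_autInducedBy_iff.1 h₁
    obtain ⟨b, hb, hbx⟩ := mem_autInducedBy_iff.1 h₂
    refine mem_autInducedBy_iff.2 ⟨(a, b), ⟨ha, hb⟩, fun z => ?_⟩
    obtain ⟨w, rfl⟩ := (imgEquiv W).surjective z
    rw [imgAut_coe]
    exact Prod.ext (hax w.1.1) (hbx w.1.2)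

theorem isFullyAutomized_img [Finite S₁] [Finite S₂] {p : ℕ} [Fact p.Prime] (h₁ : IsPGroup p S₁)
    (h₂ : IsPGroup p S₂) (hE : Cfsg.FusionSystem.IsProductSystem F₁ F₂ E) (hQ₁ : Q₁ ≤ S₁)
    (hQ₂ : Q₂ ≤ S₂) {W : Subgroup (Q₁ × Q₂)} (hW₁ : ∀ a, ∃ w ∈ W, w.1 = a)
    (hW₂ : ∀ b, ∃ w ∈ W, w.2 = b) (hW : ¬ p ∣ (inner F₁ F₂ Q₁ Q₂).relIndex (stab F₁ F₂ W)) :
    E.IsFullyAutomized p (img W) := by
  have : Finite (S₁.prod S₂) := Finite.of_equiv _ (Subgroup.prodEquiv S₁ S₂).symm.toEquiv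
  rw [isFullyAutomized_iff (isPGroup_prod h₁ h₂)]
  refine ⟨img_le hQ₁ hQ₂, ?_⟩
  rw [autInducedBy_img hE hQ₁ hQ₂ hW₁ hW₂, autGroup_img hE hQ₁ hQ₂ hW₁ hW₂,
    MonoidHom.range_eq_map,
    Subgroup.relIndex_map_map_of_injective _ _ (imgAut_injective F₁ F₂ hW₁ hW₂),
    Subgroup.relIndex_top_right]
  exact hW

theorem isReceptive_img (hE : Cfsg.FusionSystem.IsProductSystem F₁ F₂ E) (hQ₁ : F₁.IsReceptive Q₁)
    (hQ₂ : F₂.IsReceptive Q₂) {W : Subgroup (Q₁ × Q₂)} (hW₁ : ∀ a, ∃ w ∈ W, w.1 = a)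
    (hW₂ : ∀ b, ∃ w ∈ W, w.2 = b) : E.IsReceptive (img W) := by
  refine ⟨img_le hQ₁.1 hQ₂.1, fun P φ hφ hr => ?_⟩
  obtain ⟨-, φ₁, hφ₁, φ₂, hφ₂, hf⟩ := (hE _ _).1 hφ
  have key : ∀ x : P, φ x = (φ₁ (pfst P x), φ₂ (psnd P x)) := fun x => hf x (pfst P x).2 (psnd P x).2
  have hr₁ : φ₁.range = Q₁ := by
    rw [← map_fst_img hW₁, ← hr]
    ext z
    constructor
    · rintro ⟨⟨_, x, hx, rfl⟩, rfl⟩
      exact ⟨φ ⟨x, hx⟩, ⟨_, rfl⟩, congrArg Prod.fst (key ⟨x, hx⟩)⟩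
    · rintro ⟨_, ⟨x, rfl⟩, rfl⟩
      exact ⟨pfst P x, (congrArg Prod.fst (key x)).symm⟩
  have hr₂ : φ₂.range = Q₂ := by
    rw [← map_snd_img hW₂, ← hr]
    ext z
    constructor
    · rintro ⟨⟨_, x, hx, rfl⟩, rfl⟩
      exact ⟨φ ⟨x, hx⟩, ⟨_, rfl⟩, congrArg Prod.snd (key ⟨x, hx⟩)⟩
    · rintro ⟨_, ⟨x, rfl⟩, rfl⟩
      exact ⟨psnd P x, (congrArg Prod.snd (key x)).symm⟩
  obtain ⟨ψ₁, hψ₁, hext₁⟩ := hQ₁.2 _ φ₁ hφ₁ hr₁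
  obtain ⟨ψ₂, hψ₂, hext₂⟩ := hQ₂.2 _ φ₂ hφ₂ hr₂
  set N := Cfsg.FusionSystem.extender (S₁.prod S₂) P φ with hN
  have hN₁ : N.map (MonoidHom.fst Ω₁ Ω₂) ≤
      Cfsg.FusionSystem.extender S₁ (P.map (MonoidHom.fst Ω₁ Ω₂)) φ₁ := by
    rintro _ ⟨g, hg, rfl⟩
    obtain ⟨hgS, hgN, h, hhS, hh⟩ := mem_extender_iff.1 hg
    refine mem_extender_iff.2 ⟨hgS.1,
      Subgroup.le_normalizer_map (MonoidHom.fst Ω₁ Ω₂) ⟨g, hgN, rfl⟩, h.1, hhS.1, ?_⟩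
    rintro ⟨_, x, hx, rfl⟩ hx'
    have h4 := hh ⟨x, hx⟩ (conj_mem_of_normalizer hgN hx)
    rw [key, key] at h4
    exact (congrArg φ₁ (Subtype.ext rfl)).trans (congrArg Prod.fst h4)
  have hN₂ : N.map (MonoidHom.snd Ω₁ Ω₂) ≤
      Cfsg.FusionSystem.extender S₂ (P.map (MonoidHom.snd Ω₁ Ω₂)) φ₂ := by
    rintro _ ⟨g, hg, rfl⟩
    obtain ⟨hgS, hgN, h, hhS, hh⟩ := mem_extender_iff.1 hg
    refine mem_extender_iff.2 ⟨hgS.2,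
      Subgroup.le_normalizer_map (MonoidHom.snd Ω₁ Ω₂) ⟨g, hgN, rfl⟩, h.2, hhS.2, ?_⟩
    rintro ⟨_, x, hx, rfl⟩ hx'
    have h4 := hh ⟨x, hx⟩ (conj_mem_of_normalizer hgN hx)
    rw [key, key] at h4
    exact (congrArg φ₂ (Subtype.ext rfl)).trans (congrArg Prod.snd h4)
  let χ₁ := ψ₁.comp (Subgroup.inclusion hN₁)
  let χ₂ := ψ₂.comp (Subgroup.inclusion hN₂)
  refine ⟨(χ₁.comp (pfst N)).prod (χ₂.comp (psnd N)), (hE _ _).2 ⟨?_, χ₁, restrict_mem F₁ hψ₁ hN₁,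
    χ₂, restrict_mem F₂ hψ₂ hN₂, fun x _ _ => rfl⟩, fun x hP hxN => ?_⟩
  · exact fun g hg => (mem_extender_iff.1 hg).1
  · rw [key ⟨x, hP⟩]
    exact Prod.ext (hext₁ x.1 (pfst P ⟨x, hP⟩).2 _) (hext₂ x.2 (psnd P ⟨x, hP⟩).2 _)

theorem isPGroup_inner {p : ℕ} (h₁ : IsPGroup p S₁) (h₂ : IsPGroup p S₂) :
    IsPGroup p (inner F₁ F₂ Q₁ Q₂) :=
  isPGroup_prod ((isPGroup_autInducedBy h₁ Q₁).comap_of_injective _ (Subgroup.subtype_injective _))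
    ((isPGroup_autInducedBy h₂ Q₂).comap_of_injective _ (Subgroup.subtype_injective _))

/-- The product of two saturated systems over finite `p`-groups is saturated. -/
theorem isSaturated_product [Finite S₁] [Finite S₂] {p : ℕ} [Fact p.Prime] (h₁ : IsPGroup p S₁)
    (h₂ : IsPGroup p S₂) (hF₁ : F₁.IsSaturated p) (hF₂ : F₂.IsSaturated p)
    (hE : Cfsg.FusionSystem.IsProductSystem F₁ F₂ E) : E.IsSaturated p := by
  intro P hP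
  obtain ⟨Q₁, ⟨φ₁, hφ₁, hr₁⟩, ha₁, hq₁⟩ := hF₁ (P.map (MonoidHom.fst Ω₁ Ω₂))
    (by rintro _ ⟨x, hx, rfl⟩; exact (hP hx).1)
  obtain ⟨Q₂, ⟨φ₂, hφ₂, hr₂⟩, ha₂, hq₂⟩ := hF₂ (P.map (MonoidHom.snd Ω₁ Ω₂))
    (by rintro _ ⟨x, hx, rfl⟩; exact (hP hx).2)
  let e₁ := isoOf hφ₁ hr₁
  let e₂ := isoOf hφ₂ hr₂
  let ι₀ : P →* Q₁ × Q₂ := (e₁.toMonoidHom.comp (pfst P)).prod (e₂.toMonoidHom.comp (psnd P))
  have := finite_of_le hq₁.1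
  have := finite_of_le hq₂.1
  have := finite_mulAut Q₁
  have := finite_mulAut Q₂
  have hi₁ := ((isFullyAutomized_iff h₁ F₁).1 ha₁).2
  have hi₂ := ((isFullyAutomized_iff h₂ F₂).1 ha₂).2
  have hidx : ¬ p ∣ (inner F₁ F₂ Q₁ Q₂).index := by
    rw [inner, Subgroup.index_prod]
    intro h
    rcases (Fact.out : p.Prime).dvd_mul.1 h with h | h
    · exact hi₁ h
    · exact hi₂ h
  let R := (isPGroup_inner (F₁ := F₁) (F₂ := F₂) (Q₁ := Q₁) (Q₂ := Q₂) h₁ h₂).toSylow hidx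
  -- move a Sylow subgroup of the stabiliser into the inner automorphisms
  obtain ⟨T⟩ := (inferInstance : Nonempty (Sylow p (stab F₁ F₂ ι₀.range)))
  obtain ⟨g, hg⟩ := exists_conj_mem_sylow R (X := (T : Subgroup _).map (stab F₁ F₂ ι₀.range).subtype)
    (T.isPGroup'.map _)
  let W : Subgroup (Q₁ × Q₂) := act F₁ F₂ Q₁ Q₂ g • ι₀.range
  have hW₁ : ∀ a, ∃ w ∈ W, w.1 = a := by
    intro a
    obtain ⟨⟨_, x, hx, rfl⟩, hxa⟩ := e₁.surjective ((g.1 : MulAut Q₁)⁻¹ a)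
    refine ⟨_, Subgroup.smul_mem_pointwise_smul (ι₀ ⟨x, hx⟩) _ _ ⟨_, rfl⟩, ?_⟩
    show (g.1 : MulAut Q₁) (e₁ (pfst P ⟨x, hx⟩)) = a
    have : e₁ (pfst P ⟨x, hx⟩) = (g.1 : MulAut Q₁)⁻¹ a := hxa
    rw [this, MulAut.inv_def, MulEquiv.apply_symm_apply]
  have hW₂ : ∀ b, ∃ w ∈ W, w.2 = b := by
    intro a
    obtain ⟨⟨_, x, hx, rfl⟩, hxa⟩ := e₂.surjective ((g.2 : MulAut Q₂)⁻¹ a)
    refine ⟨_, Subgroup.smul_mem_pointwise_smul (ι₀ ⟨x, hx⟩) _ _ ⟨_, rfl⟩, ?_⟩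
    show (g.2 : MulAut Q₂) (e₂ (psnd P ⟨x, hx⟩)) = a
    have : e₂ (psnd P ⟨x, hx⟩) = (g.2 : MulAut Q₂)⁻¹ a := hxa
    rw [this, MulAut.inv_def, MulEquiv.apply_symm_apply]
  have hst : stab F₁ F₂ W = (stab F₁ F₂ ι₀.range).map (MulAut.conj g).toMonoidHom := by
    ext x
    rw [Subgroup.mem_map_equiv, MulAut.conj_symm_apply, mem_stab, mem_stab, map_mul, map_mul,
      map_inv, mul_smul, mul_smul, inv_smul_eq_iff]
  have hW : ¬ p ∣ (inner F₁ F₂ Q₁ Q₂).relIndex (stab F₁ F₂ W) := by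
    intro h
    apply T.not_dvd_index
    refine h.trans ?_
    rw [hst]
    refine dvd_trans (Subgroup.relIndex_dvd_of_le_left (H := ((T : Subgroup _).map
      (stab F₁ F₂ ι₀.range).subtype).map (MulAut.conj g).toMonoidHom) _ ?_) ?_
    · rintro _ ⟨x, hx, rfl⟩
      exact hg x hx
    · rw [Subgroup.relIndex_map_map_of_injective _ _ (MulEquiv.injective (MulAut.conj g)),
        Subgroup.relIndex, Subgroup.subgroupOf,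
        Subgroup.comap_map_eq_self_of_injective (Subgroup.subtype_injective _)]
  refine ⟨img W, ⟨(incl Q₁ Q₂).comp ((act F₁ F₂ Q₁ Q₂ g).toMonoidHom.comp ι₀), ?_, ?_⟩,
    isFullyAutomized_img h₁ h₂ hE hq₁.1 hq₂.1 hW₁ hW₂ hW, isReceptive_img hE hq₁ hq₂ hW₁ hW₂⟩
  · refine (hE _ _).2 ⟨hP, (Q₁.subtype.comp (g.1 : MulAut Q₁).toMonoidHom).comp e₁.toMonoidHom,
      hom_of_comp F₁ (isoOf_mem hφ₁ hr₁) ((mem_autGroup_iff F₁ hq₁.1).1 g.1.2)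
        (fun x => (e₁ x).2) (fun _ => rfl),
      (Q₂.subtype.comp (g.2 : MulAut Q₂).toMonoidHom).comp e₂.toMonoidHom,
      hom_of_comp F₂ (isoOf_mem hφ₂ hr₂) ((mem_autGroup_iff F₂ hq₂.1).1 g.2.2)
        (fun x => (e₂ x).2) (fun _ => rfl), fun x _ _ => rfl⟩
  · ext z
    constructor
    · rintro ⟨x, rfl⟩
      exact ⟨_, Subgroup.smul_mem_pointwise_smul (ι₀ x) _ _ ⟨x, rfl⟩, rfl⟩
    · rintro ⟨w, hw, rfl⟩
      obtain ⟨_, ⟨x, rfl⟩, rfl⟩ := (Subgroup.mem_smul_pointwise_iff_exists _ _ _).1 hw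
      exact ⟨x, rfl⟩

end CfsgLib.FusProduct
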